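import Groth.Agent.Lib.DCxRing.FromSingle
import Groth.Agent.Lib.DCxRing.Splitting
import Groth.Agent.Lib.InjMod.Noetherian
import Mathlib.Algebra.Category.ModuleCat.ChangeOfRings
import Mathlib.CategoryTheory.Abelian.Injective.Dimension
import Mathlib.LinearAlgebra.DirectSum.Finsupp
import Mathlib.Algebra.Polynomial.Basis

/-!
# An `A[x]`-module injective over `A` has injective dimension at most one
-/

set_option autoImplicit false
universe u

open CategoryTheory Polynomial TensorProduct

attribute [local instance] HasDerivedCategory.standard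

namespace GrothLib.InjPoly

variable (A : Type u) [CommRing A] (N : Type u) [AddCommGroup N] [Module A[X] N] [Module A N]
  [IsScalarTower A A[X] N]

/-- `Hom_A(A[x], N)`. -/
noncomputable abbrev Co : ModuleCat.{u} A[X] :=
  (ModuleCat.coextendScalars (algebraMap A A[X])).obj (ModuleCat.of A N)

/-- An element of the coinduced module from a linear map. -/
noncomputable def mkCo (φ : A[X] →ₗ[A] N) : Co A N :=
  (show (ModuleCat.restrictScalars (algebraMap A A[X])).obj (ModuleCat.of A[X] A[X]) →ₗ[A] N from
    { toFun := fun p => φ p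
      map_add' := fun p q => φ.map_add p q
      map_smul' := fun a p => (congrArg φ (Algebra.smul_def a (show A[X] from p)).symm).trans (φ.map_smul a p) })

/-- The underlying linear map. -/
noncomputable def toLin (φ : Co A N) : A[X] →ₗ[A] N :=
  let g : (ModuleCat.restrictScalars (algebraMap A A[X])).obj (ModuleCat.of A[X] A[X]) →ₗ[A] N := φ
  { toFun := fun p => g p
    map_add' := fun p q => g.map_add p q
    map_smul' := fun a p => (congrArg g (Algebra.smul_def a p)).trans (g.map_smul a p) }

theorem toLin_mkCo (φ : A[X] →ₗ[A] N) (p : A[X]) : toLin A N (mkCo A N φ) p = φ p := rfl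

theorem toLin_smul (r : A[X]) (φ : Co A N) (p : A[X]) : toLin A N (r • φ) p = toLin A N φ (p * r) := rfl

theorem toLin_add (φ ψ : Co A N) (p : A[X]) : toLin A N (φ + ψ) p = toLin A N φ p + toLin A N ψ p := rfl

theorem toLin_ext {φ ψ : Co A N} (h : ∀ p, toLin A N φ p = toLin A N ψ p) : φ = ψ :=
  LinearMap.ext h

/-- `n ↦ (p ↦ p n)`. -/
noncomputable def unit : N →ₗ[A[X]] Co A N where
  toFun n := mkCo A N ((LinearMap.toSpanSingleton A[X] N n).restrictScalars A)
  map_add' n m := toLin_ext A N fun p => smul_add p n m
  map_smul' r n := toLin_ext A N fun p => (smul_smul p r n)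

/-- `φ ↦ (p ↦ φ(p x) - x φ(p))`. -/
noncomputable def diff : Co A N →ₗ[A[X]] Co A N where
  toFun φ := mkCo A N
    { toFun := fun p => toLin A N φ (p * X) - (X : A[X]) • toLin A N φ p
      map_add' := fun p q => by rw [add_mul, map_add, map_add, smul_add]; abel
      map_smul' := fun a p => by
        rw [smul_mul_assoc, map_smul, map_smul, RingHom.id_apply, smul_sub, smul_comm (X : A[X]) a] }
  map_add' φ ψ := toLin_ext A N fun p => by
    show (toLin A N φ (p * X) + toLin A N ψ (p * X)) - (X : A[X]) • (toLin A N φ p + toLin A N ψ p) =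
      (toLin A N φ (p * X) - (X : A[X]) • toLin A N φ p) + (toLin A N ψ (p * X) - (X : A[X]) • toLin A N ψ p)
    rw [smul_add]; abel
  map_smul' r φ := toLin_ext A N fun p => by
    show toLin A N φ (p * X * r) - (X : A[X]) • toLin A N φ (p * r) =
      toLin A N φ (p * r * X) - (X : A[X]) • toLin A N φ (p * r)
    rw [mul_right_comm]

theorem diff_unit (n : N) : diff A N (unit A N n) = 0 :=
  toLin_ext A N fun p => by
    show (p * X) • n - (X : A[X]) • p • n = 0
    rw [mul_comm, mul_smul, sub_self]

theorem unit_injective : Function.Injective (unit A N) := fun n m h =>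
  ((one_smul A[X] n).symm.trans (congrArg (fun φ => toLin A N φ 1) h)).trans (one_smul A[X] m)

theorem exact : Function.Exact (unit A N) (diff A N) := fun φ => ⟨fun h => ⟨toLin A N φ 1, toLin_ext A N fun p => by
  show p • toLin A N φ 1 = toLin A N φ p
  have hx : ∀ q, toLin A N φ (q * X) = (X : A[X]) • toLin A N φ q := fun q =>
    sub_eq_zero.1 (congrArg (fun ψ => toLin A N ψ q) h)
  induction p using Polynomial.induction_on with
  | C a => rw [← mul_one (C a), ← smul_eq_C_mul, map_smul, smul_assoc, one_smul]
  | add p q hp hq => rw [add_smul, map_add, hp, hq]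
  | monomial n a ih => rw [pow_succ, ← mul_assoc, hx, ← ih, mul_comm _ (X : A[X]), mul_smul]⟩,
  fun ⟨n, hn⟩ => hn ▸ diff_unit A N n⟩

theorem diff_surjective : Function.Surjective (diff A N) := fun ψ => by
  let v : ℕ → N := fun k => Nat.rec (0 : N) (fun j vj => toLin A N ψ (X ^ j) + (X : A[X]) • vj) k
  let φ : A[X] →ₗ[A] N := (Polynomial.basisMonomials A).constr A v
  have hφ : ∀ k, φ (X ^ k) = v k := fun k => by
    rw [← Polynomial.monomial_one_right_eq_X_pow,
      show (monomial k (1 : A) : A[X]) = Polynomial.basisMonomials A k from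
        (congrFun (Polynomial.coe_basisMonomials (R := A)) k).symm]
    exact Module.Basis.constr_basis _ A v k
  refine ⟨mkCo A N φ, toLin_ext A N fun p => ?_⟩
  show φ (p * X) - (X : A[X]) • φ p = toLin A N ψ p
  induction p using Polynomial.induction_on' with
  | add p q hp hq => rw [add_mul, map_add, map_add, map_add, smul_add, ← hp, ← hq]; abel
  | monomial n a =>
    rw [← C_mul_X_pow_eq_monomial, ← smul_eq_C_mul, map_smul, map_smul, smul_mul_assoc, ← pow_succ, map_smul,
      hφ, hφ, smul_comm (X : A[X]) a, ← smul_sub]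
    exact congrArg (a • ·) (add_sub_cancel_right _ _)

theorem hasInjectiveDimensionLT_two (hN : Module.Injective A N) :
    HasInjectiveDimensionLT (ModuleCat.of A[X] N) 2 := by
  haveI : Injective (ModuleCat.of A N) := (Module.injective_iff_injective_object (R := A) N).1 hN
  haveI : Injective (Co A N) :=
    (ModuleCat.restrictCoextendScalarsAdj (algebraMap A A[X])).map_injective _ inferInstance
  let S : ShortComplex (ModuleCat.{u} A[X]) := ShortComplex.mk (X₁ := ModuleCat.of A[X] N) (X₂ := Co A N) (X₃ := Co A N)
    (ModuleCat.ofHom (unit A N)) (ModuleCat.ofHom (diff A N)) (ModuleCat.hom_ext (LinearMap.ext (diff_unit A N)))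
  have hS : S.ShortExact :=
    { exact := (ShortComplex.ShortExact.moduleCat_exact_iff_function_exact _).2 (exact A N)
      mono_f := (ModuleCat.mono_iff_injective _).2 (unit_injective A N)
      epi_g := (ModuleCat.epi_iff_surjective _).2 (diff_surjective A N) }
  exact hS.hasInjectiveDimensionLT_X₁ 1 (inferInstanceAs (HasInjectiveDimensionLT (Co A N) 1))
    (inferInstanceAs (HasInjectiveDimensionLT (Co A N) 2))

/-- Polynomials with injective coefficients are injective over the base. -/
theorem injective_poly [IsNoetherianRing A] (E : Type u) [AddCommGroup E] [Module A E] [Module.Injective A E] :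
    Module.Injective A (A[X] ⊗[A] E) := by
  classical
  have e₁ : (A[X] ⊗[A] E) ≃ₗ[A] (ULift.{u} ℕ →₀ E) :=
    (TensorProduct.congr ((Polynomial.basisMonomials A).repr) (LinearEquiv.refl A E)).trans
      ((TensorProduct.finsuppScalarLeft A E ℕ).trans (Finsupp.domLCongr Equiv.ulift.symm))
  have h := GrothLib.InjMod.injective_directSum (R := A) (fun _ : ULift.{u} ℕ => E) (fun _ => inferInstance)
  exact (Module.Baer.of_equiv (e₁.trans (finsuppLEquivDirectSum A E (ULift.{u} ℕ))).symm h).injective

/-- Injective amplitude in `[0, 1]` from injective dimension at most one. -/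
theorem hasInjAmplitudeIn_of_lt_two {B : Type u} [CommRing B] (M : Type u) [AddCommGroup M] [Module B M]
    [HasInjectiveDimensionLT (ModuleCat.of B M) 2] : DRing.HasInjAmplitudeIn B 0 1 (Dual.inD B M) := by
  refine GrothLib.DR.hasInjAmplitudeIn_of_cyclic _ 0 1 fun I i hi => ?_
  rcases hi with hi | hi
  · refine ⟨fun f g => ?_⟩
    let t : Triangulated.TStructure (Dual.D B) := DerivedCategory.TStructure.t
    haveI : t.IsLE (Dual.inD B (B ⧸ I)) 0 :=
      inferInstanceAs (((DerivedCategory.singleFunctor (ModuleCat.{u} B) 0).obj (ModuleCat.of B (B ⧸ I))).IsLE 0)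
    have hge := GrothLib.DR.isGE_shift_inD (A := B) M (-i)
    rw [neg_neg] at hge
    haveI : t.IsGE ((Dual.inD B M)⟦i⟧) (-i) := hge
    exact (t.zero f 0 (-i) (by omega)).trans (t.zero g 0 (-i) (by omega)).symm
  · obtain ⟨n, rfl⟩ : ∃ n : ℕ, (n : ℤ) = i := ⟨i.toNat, Int.toNat_of_nonneg (by omega)⟩
    haveI : Subsingleton (Abelian.Ext (ModuleCat.of B (B ⧸ I)) (ModuleCat.of B M) n) :=
      HasInjectiveDimensionLT.subsingleton _ 2 n (by omega) _
    exact (Abelian.Ext.homEquiv (X := ModuleCat.of B (B ⧸ I)) (Y := ModuleCat.of B M) (n := n)).symm.subsingleton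

end GrothLib.InjPoly
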